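import Cfsg.Agent.Lib.HeType.Local.Fast

/-!
Kernel checks of the packed tables, in chunks of eight rows.
-/

set_option autoImplicit false
set_option maxRecDepth 100000
set_option Elab.async false

namespace CfsgLib.HeType.Local

theorem paths_ok : (lPaths.all fun w => w.all fun k => decide (k < 3)) = true := by decide +kernel

theorem qm_0 : ((List.range 8).all fun j => qmRow (8 * 0 + j)) = true := by decide +kernel

theorem qm_1 : ((List.range 8).all fun j => qmRow (8 * 1 + j)) = true := by decide +kernel

theorem qm_2 : ((List.range 8).all fun j => qmRow (8 * 2 + j)) = true := by decide +kernel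

theorem qm_3 : ((List.range 8).all fun j => qmRow (8 * 3 + j)) = true := by decide +kernel

theorem qm_4 : ((List.range 8).all fun j => qmRow (8 * 4 + j)) = true := by decide +kernel

theorem qm_5 : ((List.range 8).all fun j => qmRow (8 * 5 + j)) = true := by decide +kernel

theorem qm_6 : ((List.range 8).all fun j => qmRow (8 * 6 + j)) = true := by decide +kernel

theorem qm_7 : ((List.range 8).all fun j => qmRow (8 * 7 + j)) = true := by decide +kernel

theorem qm_8 : ((List.range 8).all fun j => qmRow (8 * 8 + j)) = true := by decide +kernel

theorem qm_9 : ((List.range 8).all fun j => qmRow (8 * 9 + j)) = true := by decide +kernel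

theorem qm_10 : ((List.range 8).all fun j => qmRow (8 * 10 + j)) = true := by decide +kernel

theorem qm_11 : ((List.range 8).all fun j => qmRow (8 * 11 + j)) = true := by decide +kernel

theorem qm_12 : ((List.range 8).all fun j => qmRow (8 * 12 + j)) = true := by decide +kernel

theorem qm_13 : ((List.range 8).all fun j => qmRow (8 * 13 + j)) = true := by decide +kernel

theorem qm_14 : ((List.range 8).all fun j => qmRow (8 * 14 + j)) = true := by decide +kernel

theorem qm_15 : ((List.range 8).all fun j => qmRow (8 * 15 + j)) = true := by decide +kernel

theorem qm_rows : (List.range 128).all (qmRow) = true :=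
  all_of_chunks (n := 16) fun i hi => by
    interval_cases i
    exacts [qm_0, qm_1, qm_2, qm_3, qm_4, qm_5, qm_6, qm_7, qm_8, qm_9, qm_10, qm_11, qm_12, qm_13, qm_14, qm_15]

theorem qm_ok : qmOk = true := qm_rows

theorem gen0_ok : genOk (goodR.getD 0 []) actT0 = true := by decide +kernel

theorem act0_0 : ((List.range 8).all fun j => actRow actT0 (8 * 0 + j)) = true := by decide +kernel

theorem act0_1 : ((List.range 8).all fun j => actRow actT0 (8 * 1 + j)) = true := by decide +kernel

theorem act0_2 : ((List.range 8).all fun j => actRow actT0 (8 * 2 + j)) = true := by decide +kernel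

theorem act0_3 : ((List.range 8).all fun j => actRow actT0 (8 * 3 + j)) = true := by decide +kernel

theorem act0_4 : ((List.range 8).all fun j => actRow actT0 (8 * 4 + j)) = true := by decide +kernel

theorem act0_5 : ((List.range 8).all fun j => actRow actT0 (8 * 5 + j)) = true := by decide +kernel

theorem act0_6 : ((List.range 8).all fun j => actRow actT0 (8 * 6 + j)) = true := by decide +kernel

theorem act0_7 : ((List.range 8).all fun j => actRow actT0 (8 * 7 + j)) = true := by decide +kernel

theorem act0_8 : ((List.range 8).all fun j => actRow actT0 (8 * 8 + j)) = true := by decide +kernel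

theorem act0_9 : ((List.range 8).all fun j => actRow actT0 (8 * 9 + j)) = true := by decide +kernel

theorem act0_10 : ((List.range 8).all fun j => actRow actT0 (8 * 10 + j)) = true := by decide +kernel

theorem act0_11 : ((List.range 8).all fun j => actRow actT0 (8 * 11 + j)) = true := by decide +kernel

theorem act0_12 : ((List.range 8).all fun j => actRow actT0 (8 * 12 + j)) = true := by decide +kernel

theorem act0_13 : ((List.range 8).all fun j => actRow actT0 (8 * 13 + j)) = true := by decide +kernel

theorem act0_14 : ((List.range 8).all fun j => actRow actT0 (8 * 14 + j)) = true := by decide +kernel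

theorem act0_15 : ((List.range 8).all fun j => actRow actT0 (8 * 15 + j)) = true := by decide +kernel

theorem act0_16 : ((List.range 8).all fun j => actRow actT0 (8 * 16 + j)) = true := by decide +kernel

theorem act0_17 : ((List.range 8).all fun j => actRow actT0 (8 * 17 + j)) = true := by decide +kernel

theorem act0_18 : ((List.range 8).all fun j => actRow actT0 (8 * 18 + j)) = true := by decide +kernel

theorem act0_19 : ((List.range 8).all fun j => actRow actT0 (8 * 19 + j)) = true := by decide +kernel

theorem act0_20 : ((List.range 8).all fun j => actRow actT0 (8 * 20 + j)) = true := by decide +kernel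

theorem act0_rows : (List.range 168).all (actRow actT0) = true :=
  all_of_chunks (n := 21) fun i hi => by
    interval_cases i
    exacts [act0_0, act0_1, act0_2, act0_3, act0_4, act0_5, act0_6, act0_7, act0_8, act0_9, act0_10, act0_11, act0_12, act0_13, act0_14, act0_15, act0_16, act0_17, act0_18, act0_19, act0_20]

theorem act0_ok : actOk (goodR.getD 0 []) actT0 = true := by
  simp only [actOk, gen0_ok, act0_rows, paths_ok, Bool.and_self]

theorem gen1_ok : genOk (goodR.getD 1 []) actT1 = true := by decide +kernel

theorem act1_0 : ((List.range 8).all fun j => actRow actT1 (8 * 0 + j)) = true := by decide +kernel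

theorem act1_1 : ((List.range 8).all fun j => actRow actT1 (8 * 1 + j)) = true := by decide +kernel

theorem act1_2 : ((List.range 8).all fun j => actRow actT1 (8 * 2 + j)) = true := by decide +kernel

theorem act1_3 : ((List.range 8).all fun j => actRow actT1 (8 * 3 + j)) = true := by decide +kernel

theorem act1_4 : ((List.range 8).all fun j => actRow actT1 (8 * 4 + j)) = true := by decide +kernel

theorem act1_5 : ((List.range 8).all fun j => actRow actT1 (8 * 5 + j)) = true := by decide +kernel

theorem act1_6 : ((List.range 8).all fun j => actRow actT1 (8 * 6 + j)) = true := by decide +kernel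

theorem act1_7 : ((List.range 8).all fun j => actRow actT1 (8 * 7 + j)) = true := by decide +kernel

theorem act1_8 : ((List.range 8).all fun j => actRow actT1 (8 * 8 + j)) = true := by decide +kernel

theorem act1_9 : ((List.range 8).all fun j => actRow actT1 (8 * 9 + j)) = true := by decide +kernel

theorem act1_10 : ((List.range 8).all fun j => actRow actT1 (8 * 10 + j)) = true := by decide +kernel

theorem act1_11 : ((List.range 8).all fun j => actRow actT1 (8 * 11 + j)) = true := by decide +kernel

theorem act1_12 : ((List.range 8).all fun j => actRow actT1 (8 * 12 + j)) = true := by decide +kernel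

theorem act1_13 : ((List.range 8).all fun j => actRow actT1 (8 * 13 + j)) = true := by decide +kernel

theorem act1_14 : ((List.range 8).all fun j => actRow actT1 (8 * 14 + j)) = true := by decide +kernel

theorem act1_15 : ((List.range 8).all fun j => actRow actT1 (8 * 15 + j)) = true := by decide +kernel

theorem act1_16 : ((List.range 8).all fun j => actRow actT1 (8 * 16 + j)) = true := by decide +kernel

theorem act1_17 : ((List.range 8).all fun j => actRow actT1 (8 * 17 + j)) = true := by decide +kernel

theorem act1_18 : ((List.range 8).all fun j => actRow actT1 (8 * 18 + j)) = true := by decide +kernel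

theorem act1_19 : ((List.range 8).all fun j => actRow actT1 (8 * 19 + j)) = true := by decide +kernel

theorem act1_20 : ((List.range 8).all fun j => actRow actT1 (8 * 20 + j)) = true := by decide +kernel

theorem act1_rows : (List.range 168).all (actRow actT1) = true :=
  all_of_chunks (n := 21) fun i hi => by
    interval_cases i
    exacts [act1_0, act1_1, act1_2, act1_3, act1_4, act1_5, act1_6, act1_7, act1_8, act1_9, act1_10, act1_11, act1_12, act1_13, act1_14, act1_15, act1_16, act1_17, act1_18, act1_19, act1_20]

theorem act1_ok : actOk (goodR.getD 1 []) actT1 = true := by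
  simp only [actOk, gen1_ok, act1_rows, paths_ok, Bool.and_self]

theorem gen2_ok : genOk (goodR.getD 2 []) actT2 = true := by decide +kernel

theorem act2_0 : ((List.range 8).all fun j => actRow actT2 (8 * 0 + j)) = true := by decide +kernel

theorem act2_1 : ((List.range 8).all fun j => actRow actT2 (8 * 1 + j)) = true := by decide +kernel

theorem act2_2 : ((List.range 8).all fun j => actRow actT2 (8 * 2 + j)) = true := by decide +kernel

theorem act2_3 : ((List.range 8).all fun j => actRow actT2 (8 * 3 + j)) = true := by decide +kernel

theorem act2_4 : ((List.range 8).all fun j => actRow actT2 (8 * 4 + j)) = true := by decide +kernel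

theorem act2_5 : ((List.range 8).all fun j => actRow actT2 (8 * 5 + j)) = true := by decide +kernel

theorem act2_6 : ((List.range 8).all fun j => actRow actT2 (8 * 6 + j)) = true := by decide +kernel

theorem act2_7 : ((List.range 8).all fun j => actRow actT2 (8 * 7 + j)) = true := by decide +kernel

theorem act2_8 : ((List.range 8).all fun j => actRow actT2 (8 * 8 + j)) = true := by decide +kernel

theorem act2_9 : ((List.range 8).all fun j => actRow actT2 (8 * 9 + j)) = true := by decide +kernel

theorem act2_10 : ((List.range 8).all fun j => actRow actT2 (8 * 10 + j)) = true := by decide +kernel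

theorem act2_11 : ((List.range 8).all fun j => actRow actT2 (8 * 11 + j)) = true := by decide +kernel

theorem act2_12 : ((List.range 8).all fun j => actRow actT2 (8 * 12 + j)) = true := by decide +kernel

theorem act2_13 : ((List.range 8).all fun j => actRow actT2 (8 * 13 + j)) = true := by decide +kernel

theorem act2_14 : ((List.range 8).all fun j => actRow actT2 (8 * 14 + j)) = true := by decide +kernel

theorem act2_15 : ((List.range 8).all fun j => actRow actT2 (8 * 15 + j)) = true := by decide +kernel

theorem act2_16 : ((List.range 8).all fun j => actRow actT2 (8 * 16 + j)) = true := by decide +kernel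

theorem act2_17 : ((List.range 8).all fun j => actRow actT2 (8 * 17 + j)) = true := by decide +kernel

theorem act2_18 : ((List.range 8).all fun j => actRow actT2 (8 * 18 + j)) = true := by decide +kernel

theorem act2_19 : ((List.range 8).all fun j => actRow actT2 (8 * 19 + j)) = true := by decide +kernel

theorem act2_20 : ((List.range 8).all fun j => actRow actT2 (8 * 20 + j)) = true := by decide +kernel

theorem act2_rows : (List.range 168).all (actRow actT2) = true :=
  all_of_chunks (n := 21) fun i hi => by
    interval_cases i
    exacts [act2_0, act2_1, act2_2, act2_3, act2_4, act2_5, act2_6, act2_7, act2_8, act2_9, act2_10, act2_11, act2_12, act2_13, act2_14, act2_15, act2_16, act2_17, act2_18, act2_19, act2_20]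

theorem act2_ok : actOk (goodR.getD 2 []) actT2 = true := by
  simp only [actOk, gen2_ok, act2_rows, paths_ok, Bool.and_self]

theorem lmT_0 : ((List.range 8).all fun j => lmRow true lmT (8 * 0 + j)) = true := by decide +kernel

theorem lmT_1 : ((List.range 8).all fun j => lmRow true lmT (8 * 1 + j)) = true := by decide +kernel

theorem lmT_2 : ((List.range 8).all fun j => lmRow true lmT (8 * 2 + j)) = true := by decide +kernel

theorem lmT_3 : ((List.range 8).all fun j => lmRow true lmT (8 * 3 + j)) = true := by decide +kernel

theorem lmT_4 : ((List.range 8).all fun j => lmRow true lmT (8 * 4 + j)) = true := by decide +kernel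

theorem lmT_5 : ((List.range 8).all fun j => lmRow true lmT (8 * 5 + j)) = true := by decide +kernel

theorem lmT_6 : ((List.range 8).all fun j => lmRow true lmT (8 * 6 + j)) = true := by decide +kernel

theorem lmT_7 : ((List.range 8).all fun j => lmRow true lmT (8 * 7 + j)) = true := by decide +kernel

theorem lmT_8 : ((List.range 8).all fun j => lmRow true lmT (8 * 8 + j)) = true := by decide +kernel

theorem lmT_9 : ((List.range 8).all fun j => lmRow true lmT (8 * 9 + j)) = true := by decide +kernel

theorem lmT_10 : ((List.range 8).all fun j => lmRow true lmT (8 * 10 + j)) = true := by decide +kernel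

theorem lmT_11 : ((List.range 8).all fun j => lmRow true lmT (8 * 11 + j)) = true := by decide +kernel

theorem lmT_12 : ((List.range 8).all fun j => lmRow true lmT (8 * 12 + j)) = true := by decide +kernel

theorem lmT_13 : ((List.range 8).all fun j => lmRow true lmT (8 * 13 + j)) = true := by decide +kernel

theorem lmT_14 : ((List.range 8).all fun j => lmRow true lmT (8 * 14 + j)) = true := by decide +kernel

theorem lmT_15 : ((List.range 8).all fun j => lmRow true lmT (8 * 15 + j)) = true := by decide +kernel

theorem lmT_16 : ((List.range 8).all fun j => lmRow true lmT (8 * 16 + j)) = true := by decide +kernel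

theorem lmT_17 : ((List.range 8).all fun j => lmRow true lmT (8 * 17 + j)) = true := by decide +kernel

theorem lmT_18 : ((List.range 8).all fun j => lmRow true lmT (8 * 18 + j)) = true := by decide +kernel

theorem lmT_19 : ((List.range 8).all fun j => lmRow true lmT (8 * 19 + j)) = true := by decide +kernel

theorem lmT_20 : ((List.range 8).all fun j => lmRow true lmT (8 * 20 + j)) = true := by decide +kernel

theorem lmT_rows : (List.range 168).all (lmRow true lmT) = true :=
  all_of_chunks (n := 21) fun i hi => by
    interval_cases i
    exacts [lmT_0, lmT_1, lmT_2, lmT_3, lmT_4, lmT_5, lmT_6, lmT_7, lmT_8, lmT_9, lmT_10, lmT_11, lmT_12, lmT_13, lmT_14, lmT_15, lmT_16, lmT_17, lmT_18, lmT_19, lmT_20]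

theorem lmT_ok : lmOk true lmT = true := lmT_rows

theorem lmF_0 : ((List.range 8).all fun j => lmRow false lmF (8 * 0 + j)) = true := by decide +kernel

theorem lmF_1 : ((List.range 8).all fun j => lmRow false lmF (8 * 1 + j)) = true := by decide +kernel

theorem lmF_2 : ((List.range 8).all fun j => lmRow false lmF (8 * 2 + j)) = true := by decide +kernel

theorem lmF_3 : ((List.range 8).all fun j => lmRow false lmF (8 * 3 + j)) = true := by decide +kernel

theorem lmF_4 : ((List.range 8).all fun j => lmRow false lmF (8 * 4 + j)) = true := by decide +kernel

theorem lmF_5 : ((List.range 8).all fun j => lmRow false lmF (8 * 5 + j)) = true := by decide +kernel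

theorem lmF_6 : ((List.range 8).all fun j => lmRow false lmF (8 * 6 + j)) = true := by decide +kernel

theorem lmF_7 : ((List.range 8).all fun j => lmRow false lmF (8 * 7 + j)) = true := by decide +kernel

theorem lmF_8 : ((List.range 8).all fun j => lmRow false lmF (8 * 8 + j)) = true := by decide +kernel

theorem lmF_9 : ((List.range 8).all fun j => lmRow false lmF (8 * 9 + j)) = true := by decide +kernel

theorem lmF_10 : ((List.range 8).all fun j => lmRow false lmF (8 * 10 + j)) = true := by decide +kernel

theorem lmF_11 : ((List.range 8).all fun j => lmRow false lmF (8 * 11 + j)) = true := by decide +kernel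

theorem lmF_12 : ((List.range 8).all fun j => lmRow false lmF (8 * 12 + j)) = true := by decide +kernel

theorem lmF_13 : ((List.range 8).all fun j => lmRow false lmF (8 * 13 + j)) = true := by decide +kernel

theorem lmF_14 : ((List.range 8).all fun j => lmRow false lmF (8 * 14 + j)) = true := by decide +kernel

theorem lmF_15 : ((List.range 8).all fun j => lmRow false lmF (8 * 15 + j)) = true := by decide +kernel

theorem lmF_16 : ((List.range 8).all fun j => lmRow false lmF (8 * 16 + j)) = true := by decide +kernel

theorem lmF_17 : ((List.range 8).all fun j => lmRow false lmF (8 * 17 + j)) = true := by decide +kernel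

theorem lmF_18 : ((List.range 8).all fun j => lmRow false lmF (8 * 18 + j)) = true := by decide +kernel

theorem lmF_19 : ((List.range 8).all fun j => lmRow false lmF (8 * 19 + j)) = true := by decide +kernel

theorem lmF_20 : ((List.range 8).all fun j => lmRow false lmF (8 * 20 + j)) = true := by decide +kernel

theorem lmF_rows : (List.range 168).all (lmRow false lmF) = true :=
  all_of_chunks (n := 21) fun i hi => by
    interval_cases i
    exacts [lmF_0, lmF_1, lmF_2, lmF_3, lmF_4, lmF_5, lmF_6, lmF_7, lmF_8, lmF_9, lmF_10, lmF_11, lmF_12, lmF_13, lmF_14, lmF_15, lmF_16, lmF_17, lmF_18, lmF_19, lmF_20]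

theorem lmF_ok : lmOk false lmF = true := lmF_rows

end CfsgLib.HeType.Local
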