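import Cfsg.Agent.Lib.HeType.Local.Fast

/-!
Kernel checks of the classes of involutions, case 0.
-/

set_option autoImplicit false
set_option maxRecDepth 100000
set_option Elab.async false

namespace CfsgLib.HeType.Local

theorem complete0T_0 : ((List.range 1344).all fun j => invRow (fm actT0 lmT) invs0T (1344 * 0 + j)) = true := by
  decide +kernel

theorem complete0T_1 : ((List.range 1344).all fun j => invRow (fm actT0 lmT) invs0T (1344 * 1 + j)) = true := by
  decide +kernel

theorem complete0T_2 : ((List.range 1344).all fun j => invRow (fm actT0 lmT) invs0T (1344 * 2 + j)) = true := by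
  decide +kernel

theorem complete0T_3 : ((List.range 1344).all fun j => invRow (fm actT0 lmT) invs0T (1344 * 3 + j)) = true := by
  decide +kernel

theorem complete0T_4 : ((List.range 1344).all fun j => invRow (fm actT0 lmT) invs0T (1344 * 4 + j)) = true := by
  decide +kernel

theorem complete0T_5 : ((List.range 1344).all fun j => invRow (fm actT0 lmT) invs0T (1344 * 5 + j)) = true := by
  decide +kernel

theorem complete0T_6 : ((List.range 1344).all fun j => invRow (fm actT0 lmT) invs0T (1344 * 6 + j)) = true := by
  decide +kernel

theorem complete0T_7 : ((List.range 1344).all fun j => invRow (fm actT0 lmT) invs0T (1344 * 7 + j)) = true := by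
  decide +kernel

theorem complete0T_8 : ((List.range 1344).all fun j => invRow (fm actT0 lmT) invs0T (1344 * 8 + j)) = true := by
  decide +kernel

theorem complete0T_9 : ((List.range 1344).all fun j => invRow (fm actT0 lmT) invs0T (1344 * 9 + j)) = true := by
  decide +kernel

theorem complete0T_10 : ((List.range 1344).all fun j => invRow (fm actT0 lmT) invs0T (1344 * 10 + j)) = true := by
  decide +kernel

theorem complete0T_11 : ((List.range 1344).all fun j => invRow (fm actT0 lmT) invs0T (1344 * 11 + j)) = true := by
  decide +kernel

theorem complete0T_12 : ((List.range 1344).all fun j => invRow (fm actT0 lmT) invs0T (1344 * 12 + j)) = true := by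
  decide +kernel

theorem complete0T_13 : ((List.range 1344).all fun j => invRow (fm actT0 lmT) invs0T (1344 * 13 + j)) = true := by
  decide +kernel

theorem complete0T_14 : ((List.range 1344).all fun j => invRow (fm actT0 lmT) invs0T (1344 * 14 + j)) = true := by
  decide +kernel

theorem complete0T_15 : ((List.range 1344).all fun j => invRow (fm actT0 lmT) invs0T (1344 * 15 + j)) = true := by
  decide +kernel

theorem complete0T : invComplete (fm actT0 lmT) invs0T = true :=
  all_of_blocks (w := 1344) (n := 16) fun i hi => by
    interval_cases i
    exacts [complete0T_0, complete0T_1, complete0T_2, complete0T_3, complete0T_4, complete0T_5, complete0T_6, complete0T_7, complete0T_8, complete0T_9, complete0T_10, complete0T_11, complete0T_12, complete0T_13, complete0T_14, complete0T_15]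

theorem conj0T : invConj (fm actT0 lmT) reps0T invs0T = true := by decide +kernel

theorem count0T_0 : countRow (fm actT0 lmT) (1, 48, 48) = true := by decide +kernel

theorem count0T_1 : countRow (fm actT0 lmT) (8, 48, 48) = true := by decide +kernel

theorem count0T_2 : countRow (fm actT0 lmT) (10, 32, 16) = true := by decide +kernel

theorem count0T_3 : countRow (fm actT0 lmT) (385, 8, 8) = true := by decide +kernel

theorem count0T_4 : countRow (fm actT0 lmT) (392, 8, 8) = true := by decide +kernel

theorem count0T_5 : countRow (fm actT0 lmT) (393, 16, 16) = true := by decide +kernel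

theorem count0T_6 : countRow (fm actT0 lmT) (423, 16, 0) = true := by decide +kernel

theorem count0T : countOk (fm actT0 lmT) reps0T = true := by
  simp only [countOk, reps0T, List.all_cons, List.all_nil, count0T_0, count0T_1, count0T_2, count0T_3, count0T_4, count0T_5, count0T_6, Bool.and_self]

theorem complete0F_0 : ((List.range 1344).all fun j => invRow (fm actT0 lmF) invs0F (1344 * 0 + j)) = true := by
  decide +kernel

theorem complete0F_1 : ((List.range 1344).all fun j => invRow (fm actT0 lmF) invs0F (1344 * 1 + j)) = true := by
  decide +kernel

theorem complete0F_2 : ((List.range 1344).all fun j => invRow (fm actT0 lmF) invs0F (1344 * 2 + j)) = true := by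
  decide +kernel

theorem complete0F_3 : ((List.range 1344).all fun j => invRow (fm actT0 lmF) invs0F (1344 * 3 + j)) = true := by
  decide +kernel

theorem complete0F_4 : ((List.range 1344).all fun j => invRow (fm actT0 lmF) invs0F (1344 * 4 + j)) = true := by
  decide +kernel

theorem complete0F_5 : ((List.range 1344).all fun j => invRow (fm actT0 lmF) invs0F (1344 * 5 + j)) = true := by
  decide +kernel

theorem complete0F_6 : ((List.range 1344).all fun j => invRow (fm actT0 lmF) invs0F (1344 * 6 + j)) = true := by
  decide +kernel

theorem complete0F_7 : ((List.range 1344).all fun j => invRow (fm actT0 lmF) invs0F (1344 * 7 + j)) = true := by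
  decide +kernel

theorem complete0F_8 : ((List.range 1344).all fun j => invRow (fm actT0 lmF) invs0F (1344 * 8 + j)) = true := by
  decide +kernel

theorem complete0F_9 : ((List.range 1344).all fun j => invRow (fm actT0 lmF) invs0F (1344 * 9 + j)) = true := by
  decide +kernel

theorem complete0F_10 : ((List.range 1344).all fun j => invRow (fm actT0 lmF) invs0F (1344 * 10 + j)) = true := by
  decide +kernel

theorem complete0F_11 : ((List.range 1344).all fun j => invRow (fm actT0 lmF) invs0F (1344 * 11 + j)) = true := by
  decide +kernel

theorem complete0F_12 : ((List.range 1344).all fun j => invRow (fm actT0 lmF) invs0F (1344 * 12 + j)) = true := by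
  decide +kernel

theorem complete0F_13 : ((List.range 1344).all fun j => invRow (fm actT0 lmF) invs0F (1344 * 13 + j)) = true := by
  decide +kernel

theorem complete0F_14 : ((List.range 1344).all fun j => invRow (fm actT0 lmF) invs0F (1344 * 14 + j)) = true := by
  decide +kernel

theorem complete0F_15 : ((List.range 1344).all fun j => invRow (fm actT0 lmF) invs0F (1344 * 15 + j)) = true := by
  decide +kernel

theorem complete0F : invComplete (fm actT0 lmF) invs0F = true :=
  all_of_blocks (w := 1344) (n := 16) fun i hi => by
    interval_cases i
    exacts [complete0F_0, complete0F_1, complete0F_2, complete0F_3, complete0F_4, complete0F_5, complete0F_6, complete0F_7, complete0F_8, complete0F_9, complete0F_10, complete0F_11, complete0F_12, complete0F_13, complete0F_14, complete0F_15]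

theorem conj0F : invConj (fm actT0 lmF) reps0F invs0F = true := by decide +kernel

theorem count0F_0 : countRow (fm actT0 lmF) (1, 192, 48) = true := by decide +kernel

theorem count0F_1 : countRow (fm actT0 lmF) (8, 192, 48) = true := by decide +kernel

theorem count0F_2 : countRow (fm actT0 lmF) (10, 112, 16) = true := by decide +kernel

theorem count0F_3 : countRow (fm actT0 lmF) (384, 32, 8) = true := by decide +kernel

theorem count0F : countOk (fm actT0 lmF) reps0F = true := by
  simp only [countOk, reps0F, List.all_cons, List.all_nil, count0F_0, count0F_1, count0F_2, count0F_3, Bool.and_self]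

/-- The extra data of the split model. -/
def centOk : Bool :=
  centData.all fun e =>
    let x := (reps0T.getD e.1 (0, 0, 0)).1
    let m := fm actT0 lmT
    decide (e.2.1 < 21504) && (invs0T.any fun w => w.1 == e.2.1) &&
      (invs0T.any fun w => w.1 == e.2.1 && (reps0T.getD w.2.1 (0, 0, 0)).2 == (48, 48)) &&
      (invs0T.any fun w => w.1 == m 64 e.2.1 && (reps0T.getD w.2.1 (0, 0, 0)).2 == (48, 48)) &&
      ((List.range 21504).all fun h => !(m h x == m x h) || m h e.2.1 == m e.2.1 h) &&
      (e.2.2.all fun h => decide (h < 21504) && m h x == m x h) &&
      invs0T.all fun w => w.1 == e.2.1 || w.1 == m 64 e.2.1 || w.2.1 == e.1 || e.2.2.any fun h => !(m h w.1 == m w.1 h)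

theorem cent0T : centOk = true := by decide +kernel

/-- The commuting pair in the class with sixteen roots. -/
theorem pair0T : (fm actT0 lmT 393 12971 == fm actT0 lmT 12971 393 &&
    (invs0T.any fun w => w.1 == 12971 && w.2.1 == 5) &&
    (invs0T.any fun w => w.1 == fm actT0 lmT 393 12971 && w.2.1 == 5)) = true := by decide +kernel

end CfsgLib.HeType.Local
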