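import Cfsg.Agent.Lib.HeType.Local.Fast

/-!
Kernel checks of the classes of involutions, case 1.
-/

set_option autoImplicit false
set_option maxRecDepth 100000
set_option Elab.async false

namespace CfsgLib.HeType.Local

theorem complete1T_0 : ((List.range 1344).all fun j => invRow (fm actT1 lmT) invs1T (1344 * 0 + j)) = true := by
  decide +kernel

theorem complete1T_1 : ((List.range 1344).all fun j => invRow (fm actT1 lmT) invs1T (1344 * 1 + j)) = true := by
  decide +kernel

theorem complete1T_2 : ((List.range 1344).all fun j => invRow (fm actT1 lmT) invs1T (1344 * 2 + j)) = true := by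
  decide +kernel

theorem complete1T_3 : ((List.range 1344).all fun j => invRow (fm actT1 lmT) invs1T (1344 * 3 + j)) = true := by
  decide +kernel

theorem complete1T_4 : ((List.range 1344).all fun j => invRow (fm actT1 lmT) invs1T (1344 * 4 + j)) = true := by
  decide +kernel

theorem complete1T_5 : ((List.range 1344).all fun j => invRow (fm actT1 lmT) invs1T (1344 * 5 + j)) = true := by
  decide +kernel

theorem complete1T_6 : ((List.range 1344).all fun j => invRow (fm actT1 lmT) invs1T (1344 * 6 + j)) = true := by
  decide +kernel

theorem complete1T_7 : ((List.range 1344).all fun j => invRow (fm actT1 lmT) invs1T (1344 * 7 + j)) = true := by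
  decide +kernel

theorem complete1T_8 : ((List.range 1344).all fun j => invRow (fm actT1 lmT) invs1T (1344 * 8 + j)) = true := by
  decide +kernel

theorem complete1T_9 : ((List.range 1344).all fun j => invRow (fm actT1 lmT) invs1T (1344 * 9 + j)) = true := by
  decide +kernel

theorem complete1T_10 : ((List.range 1344).all fun j => invRow (fm actT1 lmT) invs1T (1344 * 10 + j)) = true := by
  decide +kernel

theorem complete1T_11 : ((List.range 1344).all fun j => invRow (fm actT1 lmT) invs1T (1344 * 11 + j)) = true := by
  decide +kernel

theorem complete1T_12 : ((List.range 1344).all fun j => invRow (fm actT1 lmT) invs1T (1344 * 12 + j)) = true := by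
  decide +kernel

theorem complete1T_13 : ((List.range 1344).all fun j => invRow (fm actT1 lmT) invs1T (1344 * 13 + j)) = true := by
  decide +kernel

theorem complete1T_14 : ((List.range 1344).all fun j => invRow (fm actT1 lmT) invs1T (1344 * 14 + j)) = true := by
  decide +kernel

theorem complete1T_15 : ((List.range 1344).all fun j => invRow (fm actT1 lmT) invs1T (1344 * 15 + j)) = true := by
  decide +kernel

theorem complete1T : invComplete (fm actT1 lmT) invs1T = true :=
  all_of_blocks (w := 1344) (n := 16) fun i hi => by
    interval_cases i
    exacts [complete1T_0, complete1T_1, complete1T_2, complete1T_3, complete1T_4, complete1T_5, complete1T_6, complete1T_7, complete1T_8, complete1T_9, complete1T_10, complete1T_11, complete1T_12, complete1T_13, complete1T_14, complete1T_15]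

theorem conj1T : invConj (fm actT1 lmT) reps1T invs1T = true := by decide +kernel

theorem count1T_0 : countRow (fm actT1 lmT) (1, 48, 48) = true := by decide +kernel

theorem count1T_1 : countRow (fm actT1 lmT) (8, 24, 0) = true := by decide +kernel

theorem count1T_2 : countRow (fm actT1 lmT) (385, 16, 8) = true := by decide +kernel

theorem count1T_3 : countRow (fm actT1 lmT) (392, 8, 0) = true := by decide +kernel

theorem count1T : countOk (fm actT1 lmT) reps1T = true := by
  simp only [countOk, reps1T, List.all_cons, List.all_nil, count1T_0, count1T_1, count1T_2, count1T_3, Bool.and_self]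

theorem complete1F_0 : ((List.range 1344).all fun j => invRow (fm actT1 lmF) invs1F (1344 * 0 + j)) = true := by
  decide +kernel

theorem complete1F_1 : ((List.range 1344).all fun j => invRow (fm actT1 lmF) invs1F (1344 * 1 + j)) = true := by
  decide +kernel

theorem complete1F_2 : ((List.range 1344).all fun j => invRow (fm actT1 lmF) invs1F (1344 * 2 + j)) = true := by
  decide +kernel

theorem complete1F_3 : ((List.range 1344).all fun j => invRow (fm actT1 lmF) invs1F (1344 * 3 + j)) = true := by
  decide +kernel

theorem complete1F_4 : ((List.range 1344).all fun j => invRow (fm actT1 lmF) invs1F (1344 * 4 + j)) = true := by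
  decide +kernel

theorem complete1F_5 : ((List.range 1344).all fun j => invRow (fm actT1 lmF) invs1F (1344 * 5 + j)) = true := by
  decide +kernel

theorem complete1F_6 : ((List.range 1344).all fun j => invRow (fm actT1 lmF) invs1F (1344 * 6 + j)) = true := by
  decide +kernel

theorem complete1F_7 : ((List.range 1344).all fun j => invRow (fm actT1 lmF) invs1F (1344 * 7 + j)) = true := by
  decide +kernel

theorem complete1F_8 : ((List.range 1344).all fun j => invRow (fm actT1 lmF) invs1F (1344 * 8 + j)) = true := by
  decide +kernel

theorem complete1F_9 : ((List.range 1344).all fun j => invRow (fm actT1 lmF) invs1F (1344 * 9 + j)) = true := by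
  decide +kernel

theorem complete1F_10 : ((List.range 1344).all fun j => invRow (fm actT1 lmF) invs1F (1344 * 10 + j)) = true := by
  decide +kernel

theorem complete1F_11 : ((List.range 1344).all fun j => invRow (fm actT1 lmF) invs1F (1344 * 11 + j)) = true := by
  decide +kernel

theorem complete1F_12 : ((List.range 1344).all fun j => invRow (fm actT1 lmF) invs1F (1344 * 12 + j)) = true := by
  decide +kernel

theorem complete1F_13 : ((List.range 1344).all fun j => invRow (fm actT1 lmF) invs1F (1344 * 13 + j)) = true := by
  decide +kernel

theorem complete1F_14 : ((List.range 1344).all fun j => invRow (fm actT1 lmF) invs1F (1344 * 14 + j)) = true := by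
  decide +kernel

theorem complete1F_15 : ((List.range 1344).all fun j => invRow (fm actT1 lmF) invs1F (1344 * 15 + j)) = true := by
  decide +kernel

theorem complete1F : invComplete (fm actT1 lmF) invs1F = true :=
  all_of_blocks (w := 1344) (n := 16) fun i hi => by
    interval_cases i
    exacts [complete1F_0, complete1F_1, complete1F_2, complete1F_3, complete1F_4, complete1F_5, complete1F_6, complete1F_7, complete1F_8, complete1F_9, complete1F_10, complete1F_11, complete1F_12, complete1F_13, complete1F_14, complete1F_15]

theorem conj1F : invConj (fm actT1 lmF) reps1F invs1F = true := by decide +kernel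

theorem count1F_0 : countRow (fm actT1 lmF) (1, 192, 48) = true := by decide +kernel

theorem count1F_1 : countRow (fm actT1 lmF) (8, 72, 0) = true := by decide +kernel

theorem count1F_2 : countRow (fm actT1 lmF) (384, 56, 8) = true := by decide +kernel

theorem count1F : countOk (fm actT1 lmF) reps1F = true := by
  simp only [countOk, reps1F, List.all_cons, List.all_nil, count1F_0, count1F_1, count1F_2, Bool.and_self]

end CfsgLib.HeType.Local
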