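import Cfsg.Agent.Lib.HeType.Local.Fast

/-!
Kernel checks of the classes of involutions, case 2.
-/

set_option autoImplicit false
set_option maxRecDepth 100000
set_option Elab.async false

namespace CfsgLib.HeType.Local

theorem complete2T_0 : ((List.range 1344).all fun j => invRow (fm actT2 lmT) invs2T (1344 * 0 + j)) = true := by
  decide +kernel

theorem complete2T_1 : ((List.range 1344).all fun j => invRow (fm actT2 lmT) invs2T (1344 * 1 + j)) = true := by
  decide +kernel

theorem complete2T_2 : ((List.range 1344).all fun j => invRow (fm actT2 lmT) invs2T (1344 * 2 + j)) = true := by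
  decide +kernel

theorem complete2T_3 : ((List.range 1344).all fun j => invRow (fm actT2 lmT) invs2T (1344 * 3 + j)) = true := by
  decide +kernel

theorem complete2T_4 : ((List.range 1344).all fun j => invRow (fm actT2 lmT) invs2T (1344 * 4 + j)) = true := by
  decide +kernel

theorem complete2T_5 : ((List.range 1344).all fun j => invRow (fm actT2 lmT) invs2T (1344 * 5 + j)) = true := by
  decide +kernel

theorem complete2T_6 : ((List.range 1344).all fun j => invRow (fm actT2 lmT) invs2T (1344 * 6 + j)) = true := by
  decide +kernel

theorem complete2T_7 : ((List.range 1344).all fun j => invRow (fm actT2 lmT) invs2T (1344 * 7 + j)) = true := by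
  decide +kernel

theorem complete2T_8 : ((List.range 1344).all fun j => invRow (fm actT2 lmT) invs2T (1344 * 8 + j)) = true := by
  decide +kernel

theorem complete2T_9 : ((List.range 1344).all fun j => invRow (fm actT2 lmT) invs2T (1344 * 9 + j)) = true := by
  decide +kernel

theorem complete2T_10 : ((List.range 1344).all fun j => invRow (fm actT2 lmT) invs2T (1344 * 10 + j)) = true := by
  decide +kernel

theorem complete2T_11 : ((List.range 1344).all fun j => invRow (fm actT2 lmT) invs2T (1344 * 11 + j)) = true := by
  decide +kernel

theorem complete2T_12 : ((List.range 1344).all fun j => invRow (fm actT2 lmT) invs2T (1344 * 12 + j)) = true := by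
  decide +kernel

theorem complete2T_13 : ((List.range 1344).all fun j => invRow (fm actT2 lmT) invs2T (1344 * 13 + j)) = true := by
  decide +kernel

theorem complete2T_14 : ((List.range 1344).all fun j => invRow (fm actT2 lmT) invs2T (1344 * 14 + j)) = true := by
  decide +kernel

theorem complete2T_15 : ((List.range 1344).all fun j => invRow (fm actT2 lmT) invs2T (1344 * 15 + j)) = true := by
  decide +kernel

theorem complete2T : invComplete (fm actT2 lmT) invs2T = true :=
  all_of_blocks (w := 1344) (n := 16) fun i hi => by
    interval_cases i
    exacts [complete2T_0, complete2T_1, complete2T_2, complete2T_3, complete2T_4, complete2T_5, complete2T_6, complete2T_7, complete2T_8, complete2T_9, complete2T_10, complete2T_11, complete2T_12, complete2T_13, complete2T_14, complete2T_15]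

theorem conj2T : invConj (fm actT2 lmT) reps2T invs2T = true := by decide +kernel

theorem count2T_0 : countRow (fm actT2 lmT) (1, 24, 0) = true := by decide +kernel

theorem count2T_1 : countRow (fm actT2 lmT) (8, 48, 48) = true := by decide +kernel

theorem count2T_2 : countRow (fm actT2 lmT) (385, 8, 0) = true := by decide +kernel

theorem count2T_3 : countRow (fm actT2 lmT) (392, 16, 8) = true := by decide +kernel

theorem count2T : countOk (fm actT2 lmT) reps2T = true := by
  simp only [countOk, reps2T, List.all_cons, List.all_nil, count2T_0, count2T_1, count2T_2, count2T_3, Bool.and_self]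

theorem complete2F_0 : ((List.range 1344).all fun j => invRow (fm actT2 lmF) invs2F (1344 * 0 + j)) = true := by
  decide +kernel

theorem complete2F_1 : ((List.range 1344).all fun j => invRow (fm actT2 lmF) invs2F (1344 * 1 + j)) = true := by
  decide +kernel

theorem complete2F_2 : ((List.range 1344).all fun j => invRow (fm actT2 lmF) invs2F (1344 * 2 + j)) = true := by
  decide +kernel

theorem complete2F_3 : ((List.range 1344).all fun j => invRow (fm actT2 lmF) invs2F (1344 * 3 + j)) = true := by
  decide +kernel

theorem complete2F_4 : ((List.range 1344).all fun j => invRow (fm actT2 lmF) invs2F (1344 * 4 + j)) = true := by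
  decide +kernel

theorem complete2F_5 : ((List.range 1344).all fun j => invRow (fm actT2 lmF) invs2F (1344 * 5 + j)) = true := by
  decide +kernel

theorem complete2F_6 : ((List.range 1344).all fun j => invRow (fm actT2 lmF) invs2F (1344 * 6 + j)) = true := by
  decide +kernel

theorem complete2F_7 : ((List.range 1344).all fun j => invRow (fm actT2 lmF) invs2F (1344 * 7 + j)) = true := by
  decide +kernel

theorem complete2F_8 : ((List.range 1344).all fun j => invRow (fm actT2 lmF) invs2F (1344 * 8 + j)) = true := by
  decide +kernel

theorem complete2F_9 : ((List.range 1344).all fun j => invRow (fm actT2 lmF) invs2F (1344 * 9 + j)) = true := by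
  decide +kernel

theorem complete2F_10 : ((List.range 1344).all fun j => invRow (fm actT2 lmF) invs2F (1344 * 10 + j)) = true := by
  decide +kernel

theorem complete2F_11 : ((List.range 1344).all fun j => invRow (fm actT2 lmF) invs2F (1344 * 11 + j)) = true := by
  decide +kernel

theorem complete2F_12 : ((List.range 1344).all fun j => invRow (fm actT2 lmF) invs2F (1344 * 12 + j)) = true := by
  decide +kernel

theorem complete2F_13 : ((List.range 1344).all fun j => invRow (fm actT2 lmF) invs2F (1344 * 13 + j)) = true := by
  decide +kernel

theorem complete2F_14 : ((List.range 1344).all fun j => invRow (fm actT2 lmF) invs2F (1344 * 14 + j)) = true := by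
  decide +kernel

theorem complete2F_15 : ((List.range 1344).all fun j => invRow (fm actT2 lmF) invs2F (1344 * 15 + j)) = true := by
  decide +kernel

theorem complete2F : invComplete (fm actT2 lmF) invs2F = true :=
  all_of_blocks (w := 1344) (n := 16) fun i hi => by
    interval_cases i
    exacts [complete2F_0, complete2F_1, complete2F_2, complete2F_3, complete2F_4, complete2F_5, complete2F_6, complete2F_7, complete2F_8, complete2F_9, complete2F_10, complete2F_11, complete2F_12, complete2F_13, complete2F_14, complete2F_15]

theorem conj2F : invConj (fm actT2 lmF) reps2F invs2F = true := by decide +kernel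

theorem count2F_0 : countRow (fm actT2 lmF) (1, 72, 0) = true := by decide +kernel

theorem count2F_1 : countRow (fm actT2 lmF) (8, 192, 48) = true := by decide +kernel

theorem count2F_2 : countRow (fm actT2 lmF) (384, 56, 8) = true := by decide +kernel

theorem count2F : countOk (fm actT2 lmF) reps2F = true := by
  simp only [countOk, reps2F, List.all_cons, List.all_nil, count2F_0, count2F_1, count2F_2, Bool.and_self]

end CfsgLib.HeType.Local
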