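import Cfsg.Agent.Lib.HeType.Local.Model
import Cfsg.Agent.Lib.HeType.Local.Case0
import Cfsg.Agent.Lib.HeType.Local.Case1
import Cfsg.Agent.Lib.HeType.Local.Case2

/-!
# The five false models of the centraliser
-/

set_option autoImplicit false
set_option linter.unusedSectionVars false
set_option maxRecDepth 20000

namespace CfsgLib.HeType.Local

variable {G : Type*} [Group G] [Finite G] {t : G} {el : ℕ → G} {m : ℕ → ℕ → ℕ}

/-- A model without possible swaps. -/
theorem false_case [IsSimpleGroup G] (K : IsCode t el m) (ht : orderOf t = 2)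
    (hne : Subgroup.centralizer ({t} : Set G) ≠ ⊤)
    (hodd : ¬ 2 ∣ (Subgroup.centralizer ({t} : Set G)).index)
    {reps invs : List (ℕ × ℕ × ℕ)} (hI : invComplete m invs = true) (hC : invConj m reps invs = true)
    (hN : countOk m reps = true)
    (h : reps.all (fun r => reps.all fun r' => !(r.2.1 == r'.2.2 && r.2.2 == r'.2.1)) = true) : False := by
  refine no_swap ht hne hodd fun g g' hg hg' hs => ?_
  obtain ⟨r, hr, r', hr', -, -, e1, e2⟩ := K.swap_vals hI hC hN hg hg' hs
  have := List.all_eq_true.1 (List.all_eq_true.1 h r hr) r' hr'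
  simp [e1, e2] at this

/-- A model with one self-centralising group carrying all possible conjugates. -/
theorem socle_case [IsSimpleGroup G] (K : IsCode t el m) (ht : orderOf t = 2)
    (hne : Subgroup.centralizer ({t} : Set G) ≠ ⊤)
    (hodd : ¬ 2 ∣ (Subgroup.centralizer ({t} : Set G)).index)
    {reps invs : List (ℕ × ℕ × ℕ)} (hI : invComplete m invs = true) (hC : invConj m reps invs = true)
    (hN : countOk m reps = true) (i : ℕ) (P : ℕ → Bool)
    (hswap : (List.range reps.length).all (fun j => reps.all fun r' =>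
      !((reps.getD j (0, 0, 0)).2.1 == r'.2.2 && (reps.getD j (0, 0, 0)).2.2 == r'.2.1) || j == i) = true)
    (hW : invs.all (fun w => !(w.2.1 == i) || (decide (w.1 < 128) && P w.1)) = true)
    (hWi : ((List.range 128).filter P).all (fun c => c == 0 || c == 64 || invs.any fun w => w.1 == c && w.2.1 == i) = true)
    (hWm : ((List.range 128).filter P).all (fun c => m c c == 0 && ((List.range 128).filter P).all fun d =>
      m c d == m d c && decide (m c d < 128) && P (m c d)) = true)
    (hP0 : P 0 = true) (hP64 : P 64 = true) (hW16 : ((List.range 128).filter P).length = 16)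
    (hG : Nat.card G = 4030387200) (hcC : Nat.card ↥(Subgroup.centralizer ({t} : Set G)) = 21504) : False := by
  classical
  set Wl := (List.range 128).filter P with hWl
  have hmem : ∀ c ∈ Wl, c < 21504 := fun c hc => by
    have := List.mem_range.1 (List.mem_filter.1 hc).1
    omega
  have hm : ∀ c ∈ Wl, m c c = 0 ∧ ∀ d ∈ Wl, m c d = m d c ∧ m c d ∈ Wl := fun c hc => by
    have h := List.all_eq_true.1 hWm c hc
    simp only [Bool.and_eq_true, beq_iff_eq, List.all_eq_true, decide_eq_true_eq] at h
    exact ⟨h.1, fun d hd => ⟨(h.2 d hd).1.1, List.mem_filter.2 ⟨List.mem_range.2 (h.2 d hd).1.2, (h.2 d hd).2⟩⟩⟩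
  have h0 : 0 ∈ Wl := List.mem_filter.2 ⟨List.mem_range.2 (by norm_num), hP0⟩
  let W : Subgroup G :=
    { carrier := el '' ↑Wl.toFinset
      one_mem' := ⟨0, List.mem_toFinset.2 h0, K.el_zero⟩
      mul_mem' := by
        rintro _ _ ⟨c, hc, rfl⟩ ⟨d, hd, rfl⟩
        rw [List.coe_toFinset, Set.mem_ofPred_eq] at hc hd
        exact ⟨m c d, List.mem_toFinset.2 ((hm c hc).2 d hd).2, (K.mul c (hmem c hc) d (hmem d hd)).symm⟩
      inv_mem' := by
        rintro _ ⟨c, hc, rfl⟩
        rw [List.coe_toFinset, Set.mem_ofPred_eq] at hc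
        refine ⟨c, List.mem_toFinset.2 hc, (inv_eq_of_mul_eq_one_right ?_).symm⟩
        rw [K.mul c (hmem c hc) c (hmem c hc), (hm c hc).1, K.el_zero] }
  have hWmem : ∀ g, g ∈ W ↔ ∃ c ∈ Wl, el c = g := fun g => by
    show g ∈ el '' ↑Wl.toFinset ↔ _
    simp [List.coe_toFinset]
  have hWcard : Nat.card ↥W = 16 := by
    rw [← SetLike.coe_sort_coe, Nat.card_coe_set_eq]
    show (el '' ↑Wl.toFinset).ncard = 16
    rw [Set.InjOn.ncard_image fun a ha b hb e => K.inj a (hmem a (List.mem_toFinset.1 ha)) b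
      (hmem b (List.mem_toFinset.1 hb)) e, Set.ncard_coe_finset,
      List.toFinset_card_of_nodup (show Wl.Nodup from List.nodup_range.filter _), hW16]
  have hclass : ∀ g, Inv' t g → IsConj t g → ∃ w ∈ invs, w.2.1 = i ∧ el w.1 = g := by
    intro g hg hc
    obtain ⟨g', -, hi, -, hs⟩ := exists_swap ht hg hc
    obtain ⟨w, hw, ew⟩ := K.classify hI hg
    obtain ⟨hwv, -⟩ := K.entry_val hC hN hw
    obtain ⟨r, hr, r', hr', hv, -, e1, e2⟩ := K.swap_vals hI hC hN hg hi hs
    refine ⟨w, hw, ?_, ew⟩
    have h := List.all_eq_true.1 (List.all_eq_true.1 hswap w.2.1 (List.mem_range.2 (K.entry hC hw).2.1)) r' hr'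
    rw [ew] at hwv
    simp only [Bool.or_eq_true, Bool.not_eq_true', Bool.and_eq_false_iff, beq_eq_false_iff_ne, beq_iff_eq] at h
    refine h.resolve_left ?_
    rintro (h' | h') <;> apply h'
    · rw [← hwv.1, hv.1, e1]
    · rw [← hwv.2, hv.2, e2]
  obtain ⟨x, hx, hxc⟩ := exists_fused ht hne hodd
  obtain ⟨a, ha, hai, rfl⟩ := hclass x hx hxc
  have htW : t ∈ W := (hWmem t).2 ⟨64, List.mem_filter.2 ⟨List.mem_range.2 (by norm_num), hP64⟩, K.el_top⟩
  refine socle_false ht hWcard htW ?_ ?_ ?_ (n := 12495) ?_ (by norm_num)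
  · intro g hg h hh
    obtain ⟨c, hc, rfl⟩ := (hWmem g).1 hg
    obtain ⟨d, hd, rfl⟩ := (hWmem h).1 hh
    exact (K.comm_iff (hmem c hc) (hmem d hd)).2 ((hm c hc).2 d hd).1
  · intro g hg hg1
    obtain ⟨c, hc, rfl⟩ := (hWmem g).1 hg
    have h := List.all_eq_true.1 hWi c hc
    simp only [Bool.or_eq_true, beq_iff_eq, List.any_eq_true, Bool.and_eq_true] at h
    rcases h with (h | h) | ⟨w, hw, e, hwi⟩
    · exact absurd (h ▸ K.el_zero) hg1
    · rw [h, K.el_top]
    · obtain ⟨-, hc1⟩ := K.entry_val hC hN ha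
      obtain ⟨-, hc2⟩ := K.entry_val hC hN hw
      rw [hai] at hc1
      rw [hwi, e] at hc2
      exact hxc.trans (hc1.symm.trans hc2)
  · intro g hg hgc
    by_cases hgt : g = t
    · exact hgt ▸ htW
    obtain ⟨k, hk⟩ := isConj_iff.1 hgc
    have hi : Inv' t g := by
      refine ⟨hg, ?_, ?_, hgt⟩
      · rw [← hk, show k * t * k⁻¹ * (k * t * k⁻¹) = k * (t * t) * k⁻¹ by group, ← pow_two t, ← ht,
          pow_orderOf_eq_one]
        group
      · intro h
        rw [h, mul_inv_eq_one, mul_eq_left] at hk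
        rw [hk, orderOf_one] at ht
        omega
    obtain ⟨w, hw, hwi, rfl⟩ := hclass g hi hgc
    have h := List.all_eq_true.1 hW w hw
    simp only [hwi, beq_self_eq_true, Bool.not_true, Bool.false_or, Bool.and_eq_true, decide_eq_true_eq] at h
    exact (hWmem _).2 ⟨w.1, List.mem_filter.2 ⟨List.mem_range.2 h.1, h.2⟩, rfl⟩
  · rw [hG, hcC]

theorem swap_free0 : reps0F.all (fun r => reps0F.all fun r' => !(r.2.1 == r'.2.2 && r.2.2 == r'.2.1)) = true := by
  decide +kernel

theorem swap_free1 : reps1F.all (fun r => reps1F.all fun r' => !(r.2.1 == r'.2.2 && r.2.2 == r'.2.1)) = true := by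
  decide +kernel

theorem swap_free2 : reps2F.all (fun r => reps2F.all fun r' => !(r.2.1 == r'.2.2 && r.2.2 == r'.2.1)) = true := by
  decide +kernel

/-- The uniserial model with socle spanned by the first three generators. -/
theorem case1_false [IsSimpleGroup G] (K : IsCode t el (fm actT1 lmT)) (ht : orderOf t = 2)
    (hne : Subgroup.centralizer ({t} : Set G) ≠ ⊤) (hodd : ¬ 2 ∣ (Subgroup.centralizer ({t} : Set G)).index)
    (hG : Nat.card G = 4030387200) (hcC : Nat.card ↥(Subgroup.centralizer ({t} : Set G)) = 21504) : False :=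
  socle_case K ht hne hodd complete1T conj1T count1T 0 (fun c => c / 8 % 8 == 0) (by decide +kernel)
    (by decide +kernel) (by decide +kernel) (by decide +kernel) (by decide +kernel) (by decide +kernel)
    (by decide +kernel) hG hcC

/-- The uniserial model with socle spanned by the other three generators. -/
theorem case2_false [IsSimpleGroup G] (K : IsCode t el (fm actT2 lmT)) (ht : orderOf t = 2)
    (hne : Subgroup.centralizer ({t} : Set G) ≠ ⊤) (hodd : ¬ 2 ∣ (Subgroup.centralizer ({t} : Set G)).index)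
    (hG : Nat.card G = 4030387200) (hcC : Nat.card ↥(Subgroup.centralizer ({t} : Set G)) = 21504) : False :=
  socle_case K ht hne hodd complete2T conj2T count2T 1 (fun c => c % 8 == 0) (by decide +kernel)
    (by decide +kernel) (by decide +kernel) (by decide +kernel) (by decide +kernel) (by decide +kernel)
    (by decide +kernel) hG hcC

end CfsgLib.HeType.Local
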