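import Cfsg.Agent.Lib.HeType.Local.Model
import Cfsg.Agent.Lib.HeType.Local.Case0

/-!
# The split model: fusion into a normal elementary group of order sixteen
-/

set_option autoImplicit false
set_option linter.unusedSectionVars false
set_option maxRecDepth 20000

namespace CfsgLib.HeType.Local

variable {G : Type*} [Group G] [Finite G] {t : G} {el : ℕ → G}

theorem reps_swap : reps0T.all (fun r => reps0T.all fun r' =>
    !(r.2.1 == r'.2.2 && r.2.2 == r'.2.1) || [(48, 48), (8, 8), (16, 16)].contains r.2) = true := by decide +kernel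

theorem reps_eight : reps0T.all (fun r => reps0T.all fun r' =>
    !(r.2 == (8, 8) && r.2.1 == r'.2.2 && r.2.2 == r'.2.1) || r'.2 == (8, 8)) = true := by decide +kernel

theorem reps_index : (List.range reps0T.length).all (fun i =>
    (!((reps0T.getD i (0, 0, 0)).2 == (8, 8)) || centData.any fun e => e.1 == i) &&
      (!((reps0T.getD i (0, 0, 0)).2 == (16, 16)) || i == 5) &&
      (!((reps0T.getD i (0, 0, 0)).2 == (48, 48)) || (reps0T.getD i (0, 0, 0)).1 == 1 ||
        (reps0T.getD i (0, 0, 0)).1 == 8)) = true := by decide +kernel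

theorem rep_five : reps0T.getD 5 (0, 0, 0) = (393, 16, 16) := by decide +kernel

theorem shift_other : invs0T.all (fun w => !((reps0T.getD w.2.1 (0, 0, 0)).2 == (16, 16)) ||
    invs0T.all (fun u => !(u.1 == fm actT0 lmT 64 w.1) || (reps0T.getD u.2.1 (0, 0, 0)).2 == (16, 0))) = true := by
  decide +kernel

theorem forty_eight_low : invs0T.all (fun w =>
    !((reps0T.getD w.2.1 (0, 0, 0)).2 == (48, 48)) || decide (w.1 < 128)) = true := by decide +kernel

variable (K : IsCode t el (fm actT0 lmT))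
include K

theorem entry0 {w : ℕ × ℕ × ℕ} (hw : w ∈ invs0T) : w.1 < 21504 ∧
    Val t (el w.1) (reps0T.getD w.2.1 (0, 0, 0)).2 ∧ IsConj (el (reps0T.getD w.2.1 (0, 0, 0)).1) (el w.1) :=
  ⟨(K.entry conj0T hw).1, K.entry_val conj0T count0T hw⟩

/-- Central elements beside the involutions with eight roots. -/
theorem eight_centre {g : G} (hg : Inv' t g) (hv : Val t g (8, 8)) :
    ∃ y, (Inv' t y ∧ Val t y (48, 48)) ∧ (Inv' t (t * y) ∧ Val t (t * y) (48, 48)) ∧
      (∀ h, h * t = t * h → h * g = g * h → h * y = y * h) ∧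
      ∀ w, Inv' t w → (∀ h, h * t = t * h → h * g = g * h → h * w = w * h) → w = y ∨ w = t * y ∨ IsConj g w := by
  obtain ⟨a, ha, rfl⟩ := K.classify complete0T hg
  obtain ⟨ha1, hav, -⟩ := entry0 K ha
  obtain ⟨-, hi, hk, -, he⟩ := K.entry conj0T ha
  obtain ⟨hx, -⟩ := K.rep_lt count0T (K.entry conj0T ha).2.2.2.1
  set x := (reps0T.getD a.2.1 (0, 0, 0)).1 with hxdef
  have hidx : ∃ e ∈ centData, e.1 = a.2.1 := by
    have h := List.all_eq_true.1 reps_index a.2.1 (List.mem_range.2 hi)
    simp only [Bool.and_eq_true, Bool.or_eq_true, Bool.not_eq_true', beq_eq_false_iff_ne, List.any_eq_true,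
      beq_iff_eq] at h
    refine h.1.1.resolve_left fun h' => h' ?_
    exact Prod.ext (hav.1.symm.trans hv.1) (hav.2.symm.trans hv.2)
  obtain ⟨e, hed, hei⟩ := hidx
  have hc := List.all_eq_true.1 cent0T e hed
  simp only [hei, Bool.and_eq_true, decide_eq_true_eq, List.all_eq_true, List.mem_range, Bool.or_eq_true,
    Bool.not_eq_true', beq_eq_false_iff_ne, List.any_eq_true, beq_iff_eq] at hc
  rw [← hxdef] at hc
  obtain ⟨⟨⟨⟨⟨⟨hy, -⟩, hy48⟩, hty48⟩, hycen⟩, hwit⟩, hall⟩ := hc
  obtain ⟨wy, hwy, ey, vy⟩ := hy48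
  obtain ⟨wz, hwz, ez, vz⟩ := hty48
  have hk' := K.mem _ hk
  set k := el a.2.2 with hkdef
  have hax : el a.1 = k * el x * k⁻¹ := he hx
  have hkt : k * t * k⁻¹ = t := by rw [hk', mul_inv_cancel_right]
  have e64 : el (fm actT0 lmT 64 e.2.1) = t * el e.2.1 := by rw [← K.mul 64 (by norm_num) _ hy, K.el_top]
  have hval : ∀ c, (Inv' t (el c) ∧ Val t (el c) (48, 48)) → Inv' t (k * el c * k⁻¹) ∧ Val t (k * el c * k⁻¹) (48, 48) := by
    rintro c ⟨⟨h1, h2, h3, h4⟩, hv1, hv2⟩
    refine ⟨⟨?_, ?_, ?_, ?_⟩, ?_, ?_⟩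
    · have := conj_comm k h1
      rwa [hkt] at this
    · rw [show k * el c * k⁻¹ * (k * el c * k⁻¹) = k * (el c * el c) * k⁻¹ by group, h2]; group
    · intro h
      rw [mul_inv_eq_one, mul_eq_left] at h
      exact h3 h
    · intro h
      exact h4 (mul_left_cancel (mul_right_cancel (h.trans hkt.symm)))
    · have := roots_conj (t := t) (x := el c) (y := t) hk'
      rw [hkt] at this
      rw [this, hv1]
    · rw [roots_conj hk', hv2]
  have hbase : ∀ w, w ∈ invs0T → (reps0T.getD w.2.1 (0, 0, 0)).2 = (48, 48) → Inv' t (el w.1) ∧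
      Val t (el w.1) (48, 48) := by
    intro w hw hw'
    obtain ⟨hw1, hwv, hcj⟩ := entry0 K hw
    rw [hw'] at hwv
    refine ⟨⟨K.mem _ hw1, ?_, ?_, ?_⟩, hwv⟩
    · have hlow := List.all_eq_true.1 forty_eight_low w hw
      simp only [Bool.or_eq_true, Bool.not_eq_true', beq_eq_false_iff_ne, decide_eq_true_eq, hw', ne_eq,
        not_true_eq_false, false_or] at hlow
      have hsq : ∀ v < 128, (fun v => invs0T.all fun w => !(w.1 == v) || fm actT0 lmT v v == 0) v = true := by
        decide +kernel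
      have := List.all_eq_true.1 (hsq _ hlow) w hw
      simp only [beq_self_eq_true, Bool.not_true, Bool.false_or, beq_iff_eq] at this
      rw [K.mul _ hw1 _ hw1, this, K.el_zero]
    · intro h
      have hne : invs0T.all (fun w => !(w.1 == 0) && !(w.1 == 64)) = true := by decide +kernel
      have := List.all_eq_true.1 hne w hw
      rw [Bool.and_eq_true] at this
      rw [K.inj _ hw1 0 (by norm_num) (h.trans K.el_zero.symm)] at this
      simp at this
    · intro h
      have hne : invs0T.all (fun w => !(w.1 == 0) && !(w.1 == 64)) = true := by decide +kernel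
      have := List.all_eq_true.1 hne w hw
      rw [Bool.and_eq_true] at this
      rw [K.inj _ hw1 64 (by norm_num) (h.trans K.el_top.symm)] at this
      simp at this
  have hty : t * (k * el e.2.1 * k⁻¹) = k * (t * el e.2.1) * k⁻¹ := by
    calc t * (k * el e.2.1 * k⁻¹) = k * t * k⁻¹ * (k * el e.2.1 * k⁻¹) := by rw [hkt]
      _ = _ := by group
  refine ⟨k * el e.2.1 * k⁻¹, hval _ (ey ▸ hbase wy hwy vy), ?_, ?_, ?_⟩
  · rw [hty, ← e64]
    exact hval _ (ez ▸ hbase wz hwz vz)
  · intro h h1 h2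
    obtain ⟨c, hc, hcel⟩ := K.surj (k⁻¹ * h * k) (by
      have := conj_comm k⁻¹ (show h * (k * t * k⁻¹) = k * t * k⁻¹ * h by rw [hkt, h1])
      simpa [mul_assoc] using this)
    have hcx : el c * el x = el x * el c := by
      rw [hax] at h2
      have := conj_comm k⁻¹ h2
      simpa [mul_assoc, hcel] using this
    have := (hycen c hc).resolve_left fun h' => h' ((K.comm_iff hc hx).1 hcx)
    have := conj_comm k ((K.comm_iff hc hy).2 this)
    rw [hcel] at this
    simpa [mul_assoc] using this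
  · intro w hw hcen
    obtain ⟨c, hc, hcel⟩ := K.surj (k⁻¹ * w * k) (by
      have := conj_comm k⁻¹ (show w * (k * t * k⁻¹) = k * t * k⁻¹ * w by rw [hkt, hw.1])
      simpa [mul_assoc] using this)
    have hwc : w = k * el c * k⁻¹ := by rw [hcel]; group
    have hci : Inv' t (el c) := by
      refine ⟨K.mem c hc, ?_, ?_, ?_⟩
      · rw [hcel, show k⁻¹ * w * k * (k⁻¹ * w * k) = k⁻¹ * (w * w) * k by group, hw.2.1]; group
      · intro h
        exact hw.2.2.1 (by rw [hwc, h]; group)
      · intro h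
        exact hw.2.2.2 (by rw [hwc, h, hkt])
    obtain ⟨v, hv', ev⟩ := K.classify complete0T hci
    have hcases := hall v hv'
    rw [hwc, ← ev]
    rcases hcases with ((h | h) | h) | ⟨u, hu, hu'⟩
    · exact .inl (by rw [h])
    · exact .inr (.inl (by rw [h, e64, hty]))
    · refine .inr (.inr ?_)
      rw [hax]
      have hcj := (entry0 K hv').2.2
      rw [h, ← hxdef] at hcj
      obtain ⟨d, hd⟩ := isConj_iff.1 hcj
      exact isConj_iff.2 ⟨k * d * k⁻¹, by rw [← hd]; group⟩
    · exfalso
      obtain ⟨hu1, hu2⟩ := hwit u hu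
      refine hu' ?_
      have hud : k * el u * k⁻¹ * w = w * (k * el u * k⁻¹) := hcen _ (by
        have := conj_comm k (K.mem u hu1)
        rwa [hkt] at this) (by rw [hax]; exact conj_comm k ((K.comm_iff hu1 hx).2 hu2))
      rw [hwc, ← ev] at hud
      have := conj_comm k⁻¹ hud
      exact (K.comm_iff hu1 (entry0 K hv').1).1 (by simpa [mul_assoc] using this)

/-- An involution of the class meets one of the two groups. -/
theorem split_case [IsSimpleGroup G] (ht : orderOf t = 2) (hne : Subgroup.centralizer ({t} : Set G) ≠ ⊤)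
    (hodd : ¬ 2 ∣ (Subgroup.centralizer ({t} : Set G)).index) :
    IsConj t (el 1) ∨ IsConj t (el 8) := by
  obtain ⟨f, ⟨-, hfv⟩, hfi, hfc⟩ := split_fused ht hne hodd
    (M := {g | Inv' t g ∧ Val t g (48, 48)}) (L := {g | Inv' t g ∧ Val t g (8, 8)})
    (O := {g | Inv' t g ∧ Val t g (16, 16)})
    (fun g g' hg hg' hs => by
      obtain ⟨r, hr, r', hr', hv, -, e1, e2⟩ := K.swap_vals complete0T conj0T count0T hg hg' hs
      have h := List.all_eq_true.1 (List.all_eq_true.1 reps_swap r hr) r' hr'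
      simp only [e1, e2, beq_self_eq_true, Bool.and_self, Bool.not_true, Bool.false_or, List.contains_iff_mem,
        List.mem_cons, List.not_mem_nil, or_false] at h
      rcases h with h | h | h <;> rw [h] at hv
      exacts [.inl ⟨hg, hv⟩, .inr (.inl ⟨hg, hv⟩), .inr (.inr ⟨hg, hv⟩)])
    (fun g g' hg hg' hs => by
      obtain ⟨r, hr, r', hr', hv, hv', e1, e2⟩ := K.swap_vals complete0T conj0T count0T hg.1 hg' hs
      have hr8 : r.2 = (8, 8) := Prod.ext (hv.1.symm.trans hg.2.1) (hv.2.symm.trans hg.2.2)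
      have h := List.all_eq_true.1 (List.all_eq_true.1 reps_eight r hr) r' hr'
      rw [hr8] at e1 e2
      simp only [hr8, ← e1, ← e2, beq_self_eq_true, Bool.and_self, Bool.not_true, Bool.false_or, beq_iff_eq] at h
      exact ⟨hg', by rw [h] at hv'; exact hv'⟩)
    (fun g hg => by
      obtain ⟨y, h1, h2, h3, h4⟩ := eight_centre K hg.1 hg.2
      exact ⟨y, h1, h2, h1.1, h2.1, h3, h4⟩)
    (fun g hg => by
      obtain ⟨w, hw, rfl⟩ := K.classify complete0T hg.1
      obtain ⟨hw1, hwv, hwc⟩ := entry0 K hw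
      obtain ⟨-, hwi, hk, -, he⟩ := K.entry conj0T hw
      have h5 : w.2.1 = 5 := by
        have h := List.all_eq_true.1 reps_index w.2.1 (List.mem_range.2 hwi)
        simp only [Bool.and_eq_true, Bool.or_eq_true, Bool.not_eq_true', beq_eq_false_iff_ne, beq_iff_eq] at h
        exact h.1.2.resolve_left fun h' => h' (Prod.ext (hwv.1.symm.trans hg.2.1) (hwv.2.symm.trans hg.2.2))
      rw [h5, rep_five] at he hwc
      have e0 := he (by norm_num)
      have hp := pair0T
      simp only [Bool.and_eq_true, List.any_eq_true, beq_iff_eq] at hp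
      obtain ⟨⟨hcm, u, hu, eu, hu5⟩, v, hv, ev, hv5⟩ := hp
      obtain ⟨-, huv, huc⟩ := entry0 K hu
      obtain ⟨-, hvv, hvc⟩ := entry0 K hv
      rw [hu5, rep_five, eu] at huc huv
      rw [hv5, rep_five, ev, ← K.mul 393 (by norm_num) 12971 (by norm_num)] at hvc hvv
      set k := el w.2.2
      have hk' := K.mem _ hk
      have hkt : k * t * k⁻¹ = t := by rw [hk', mul_inv_cancel_right]
      have hcomm : el 12971 * el 393 = el 393 * el 12971 :=
        ((K.comm_iff (by norm_num) (by norm_num)).2 hcm).symm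
      have hsq : ∀ c ∈ [393, 12971], fm actT0 lmT c c = 0 := by decide +kernel
      have hs1 : el 393 * el 393 = 1 := by
        rw [K.mul _ (by norm_num) _ (by norm_num), hsq _ (by simp), K.el_zero]
      have hs2 : el 12971 * el 12971 = 1 := by
        rw [K.mul _ (by norm_num) _ (by norm_num), hsq _ (by simp), K.el_zero]
      have hne' : ∀ c < 21504, ∀ d < 21504, c ≠ d → el c ≠ el d := fun c hc d hd h e => h (K.inj c hc d hd e)
      have hi : ∀ x, x * t = t * x → x * x = 1 → x ≠ 1 → x ≠ t → Inv' t (k * x * k⁻¹) := by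
        intro x h1 h2 h3 h4
        refine ⟨?_, ?_, ?_, fun h => h4 (mul_left_cancel (mul_right_cancel (h.trans hkt.symm)))⟩
        · have := conj_comm k h1
          rwa [hkt] at this
        · rw [show k * x * k⁻¹ * (k * x * k⁻¹) = k * (x * x) * k⁻¹ by group, h2]; group
        · intro h
          rw [mul_inv_eq_one, mul_eq_left] at h
          exact h3 h
      have hval : ∀ x, Val t x (16, 16) → Val t (k * x * k⁻¹) (16, 16) := by
        rintro x ⟨v1, v2⟩
        refine ⟨?_, by rw [roots_conj hk']; exact v2⟩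
        have := roots_conj (t := t) (x := x) (y := t) hk'
        rw [hkt] at this
        rw [this]; exact v1
      have hiy : Inv' t (k * el 12971 * k⁻¹) := hi _ (K.mem _ (by norm_num)) hs2
        (fun h => hne' _ (by norm_num) 0 (by norm_num) (by norm_num) (h.trans K.el_zero.symm))
        (fun h => hne' _ (by norm_num) 64 (by norm_num) (by norm_num) (h.trans K.el_top.symm))
      have hiz : Inv' t (k * (el 393 * el 12971) * k⁻¹) := by
        have hz : fm actT0 lmT 393 12971 ≠ 0 ∧ fm actT0 lmT 393 12971 ≠ 64 := by decide +kernel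
        refine hi _ ?_ ?_ ?_ ?_
        · rw [K.mul _ (by norm_num) _ (by norm_num)]
          exact K.mem _ (K.lt _ (by norm_num) _ (by norm_num))
        · rw [show el 393 * el 12971 * (el 393 * el 12971) = el 393 * (el 12971 * el 393) * el 12971 by group,
            hcomm, show el 393 * (el 393 * el 12971) * el 12971 = el 393 * el 393 * (el 12971 * el 12971) by group,
            hs1, hs2, one_mul]
        · intro h
          rw [K.mul _ (by norm_num) _ (by norm_num)] at h
          exact hne' _ (K.lt _ (by norm_num) _ (by norm_num)) 0 (by norm_num) hz.1 (h.trans K.el_zero.symm)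
        · intro h
          rw [K.mul _ (by norm_num) _ (by norm_num)] at h
          exact hne' _ (K.lt _ (by norm_num) _ (by norm_num)) 64 (by norm_num) hz.2 (h.trans K.el_top.symm)
      have hcj : ∀ x, IsConj (el 393) x → IsConj (el w.1) (k * x * k⁻¹) := fun x h =>
        (hwc.symm.trans h).trans (isConj_iff.2 ⟨k, rfl⟩)
      refine ⟨k * el 12971 * k⁻¹, ⟨hiy, hval _ huv⟩, ?_, ?_, hiy, ?_, hcj _ huc, ?_⟩
      · rw [e0]; exact conj_comm k hcomm
      · rw [e0]
        exact fun h => hne' 393 (by norm_num) 12971 (by norm_num) (by norm_num) (mul_left_cancel (mul_right_cancel h))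
      · rw [e0, show k * el 393 * k⁻¹ * (k * el 12971 * k⁻¹) = k * (el 393 * el 12971) * k⁻¹ by group]
        exact ⟨hiz, hval _ hvv⟩
      · rw [e0, show k * el 393 * k⁻¹ * (k * el 12971 * k⁻¹) = k * (el 393 * el 12971) * k⁻¹ by group, ← e0]
        exact hcj _ hvc)
    (fun g hg => by
      obtain ⟨w, hw, rfl⟩ := K.classify complete0T hg.1
      obtain ⟨hw1, hwv, -⟩ := entry0 K hw
      have h16 : (reps0T.getD w.2.1 (0, 0, 0)).2 = (16, 16) :=
        Prod.ext (hwv.1.symm.trans hg.2.1) (hwv.2.symm.trans hg.2.2)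
      have key : ∀ n : ℕ × ℕ, n ≠ (16, 0) → ¬ (Inv' t (t * el w.1) ∧ Val t (t * el w.1) n) := by
        rintro n hn ⟨hi, hv⟩
        rw [← K.el_top, K.mul 64 (by norm_num) _ hw1] at hi hv
        rw [K.el_top] at hi hv
        obtain ⟨u, hu, eu⟩ := K.classify complete0T hi
        obtain ⟨hu1, huv, -⟩ := entry0 K hu
        have e := K.inj _ hu1 _ (K.lt _ (by norm_num) _ hw1) eu
        have h := List.all_eq_true.1 shift_other w hw
        simp only [h16, beq_self_eq_true, Bool.not_true, Bool.false_or, List.all_eq_true, Bool.or_eq_true,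
          Bool.not_eq_true', beq_eq_false_iff_ne, beq_iff_eq] at h
        have hu' := (h u hu).resolve_left fun h' => h' e
        rw [← eu] at hv
        rw [hu'] at huv
        exact hn (Prod.ext (hv.1.symm.trans huv.1) (hv.2.symm.trans huv.2))
      exact ⟨key _ (by decide), key _ (by decide), key _ (by decide)⟩)
  obtain ⟨w, hw, rfl⟩ := K.classify complete0T hfi
  obtain ⟨-, hwv, hwc⟩ := entry0 K hw
  obtain ⟨-, hwi, -⟩ := K.entry conj0T hw
  have h := List.all_eq_true.1 reps_index w.2.1 (List.mem_range.2 hwi)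
  simp only [Bool.and_eq_true, Bool.or_eq_true, Bool.not_eq_true', beq_eq_false_iff_ne, beq_iff_eq] at h
  rcases h.2 with (h' | h') | h'
  · exact absurd (Prod.ext (hwv.1.symm.trans hfv.1) (hwv.2.symm.trans hfv.2)) h'
  · exact .inl (hfc.trans (h' ▸ hwc.symm))
  · exact .inr (hfc.trans (h' ▸ hwc.symm))

/-- A conjugation taking an element of those classes to `t` takes `t` into the extraspecial group. -/
theorem partner (ht : orderOf t = 2) {f g : G} (hf : Inv' t f) (hv : Val t f (48, 48)) (e : g * f * g⁻¹ = t) :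
    ∃ c < 128, el c = g * t * g⁻¹ := by
  obtain ⟨g', e', hi, -, hs⟩ := exists_swap ht hf (isConj_iff.2 ⟨g, e⟩).symm
  have hd : g' * g⁻¹ * t = t * (g' * g⁻¹) := by
    calc g' * g⁻¹ * t = g' * g⁻¹ * (g * f * g⁻¹) := by rw [e]
      _ = g' * f * g'⁻¹ * (g' * g⁻¹) := by group
      _ = t * (g' * g⁻¹) := by rw [e']
  obtain ⟨r, hr, r', hr', hv1, hv2, e1, e2⟩ := K.swap_vals complete0T conj0T count0T hf hi hs
  obtain ⟨w, hw, ew⟩ := K.classify complete0T hi
  obtain ⟨hw1, hwv, -⟩ := entry0 K hw
  rw [ew] at hwv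
  have h48 : (reps0T.getD w.2.1 (0, 0, 0)).2 = (48, 48) := by
    refine Prod.ext ?_ ?_
    · rw [← hwv.1, hv2.1, ← e2, ← hv1.2, hv.2]
    · rw [← hwv.2, hv2.2, ← e1, ← hv1.1, hv.1]
  have hlow : ∀ u ∈ invs0T, (reps0T.getD u.2.1 (0, 0, 0)).2 = (48, 48) → u.1 < 128 := by
    intro u hu h
    have := List.all_eq_true.1 forty_eight_low u hu
    simp only [h, beq_self_eq_true, Bool.not_true, Bool.false_or, decide_eq_true_eq] at this
    exact this
  -- transport back by an element of the centraliser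
  have hkt : (g' * g⁻¹) * t * (g' * g⁻¹)⁻¹ = t := by rw [hd, mul_inv_cancel_right]
  have eq : g' * t * g'⁻¹ = (g' * g⁻¹) * (g * t * g⁻¹) * (g' * g⁻¹)⁻¹ := by group
  have hgi : Inv' t (g * t * g⁻¹) := by
    refine ⟨?_, ?_, ?_, ?_⟩
    · have := conj_comm g hf.1.symm
      rwa [e] at this
    · rw [show g * t * g⁻¹ * (g * t * g⁻¹) = g * (t * t) * g⁻¹ by group, ← pow_two t, ← ht, pow_orderOf_eq_one]
      group
    · intro h
      rw [mul_inv_eq_one, mul_eq_left] at h
      rw [h, orderOf_one] at ht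
      omega
    · exact fun h => hf.2.2.2 (mul_left_cancel (mul_right_cancel (e.trans h.symm)))
  obtain ⟨u, hu, eu⟩ := K.classify complete0T hgi
  obtain ⟨hu1, huv, -⟩ := entry0 K hu
  refine ⟨u.1, hlow u hu ?_, eu⟩
  rw [eu] at huv
  have r1 := roots_conj (t := t) (x := g * t * g⁻¹) (y := t) hd
  rw [hkt, ← eq] at r1
  have r2 := roots_conj (t := t) (x := g * t * g⁻¹) (y := g * t * g⁻¹) hd
  rw [← eq] at r2
  rw [h48] at hwv
  exact Prod.ext (huv.1.symm.trans (r1.symm.trans hwv.1)) (huv.2.symm.trans (r2.symm.trans hwv.2))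

end CfsgLib.HeType.Local
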