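import Cfsg.Agent.Lib.HeType.Coords.Basic
import Cfsg.Agent.Lib.HeType.Local.Tables
import Cfsg.Agent.Lib.HeType.Local.Classes

/-!
The products of codes from packed tables, and the checks on the classes of involutions.
-/

set_option autoImplicit false

namespace CfsgLib.HeType.Local

/-- An entry of eight bits. -/
def at8 (T : List ℕ) (i j : ℕ) : ℕ := ((T.getD i 0) >>> (8 * j)) &&& 255

/-- An entry of sixteen bits. -/
def at16 (T : List ℕ) (i j : ℕ) : ℕ := ((T.getD i 0) >>> (16 * j)) &&& 65535

/-- The product of codes from the tables. -/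
def fm (A L : List ℕ) (c d : ℕ) : ℕ :=
  at8 qmT (at8 qmT (c % 128) (at8 A (c / 128) (d % 128))) (64 * (at16 L (c / 128) (d / 128) / 256)) +
    128 * (at16 L (c / 128) (d / 128) % 256)

/-- A row of the table of the extraspecial group is right. -/
def qmRow (v : ℕ) : Bool := (List.range 128).all fun w =>
  at8 qmT v w == qMul v w && decide (qMul v w < 128)

/-- The table of the extraspecial group is right. -/
def qmOk : Bool := (List.range 128).all qmRow

/-- The rows of the three generators are right. -/
def genOk (R A : List ℕ) : Bool := (List.range 3).all fun k => (List.range 128).all fun v =>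
  at8 A (k + 1) v == qAut (imOf R k) v && decide (qAut (imOf R k) v < 128)

/-- The action of a class through the rows of the generators. -/
def genAct (A : List ℕ) (w : List ℕ) (v : ℕ) : ℕ := w.foldr (fun k u => at8 A (k + 1) u) v

/-- A row of a table of actions is right. -/
def actRow (A : List ℕ) (l : ℕ) : Bool := (List.range 128).all fun v => at8 A l v == genAct A (lPaths.getD l []) v

/-- A table of actions is right. -/
def actOk (R A : List ℕ) : Bool := genOk R A && (lPaths.all fun w => w.all fun k => decide (k < 3)) &&
  (List.range 168).all (actRow A)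

/-- A row of a table of classes is right. -/
def lmRow (e : Bool) (L : List ℕ) (c : ℕ) : Bool := (List.range 168).all fun d =>
  at16 L c d == lWalk e (lPaths.getD d []) c 0 &&
    decide (lWalk e (lPaths.getD d []) c 0 / 256 < 2 ∧ lWalk e (lPaths.getD d []) c 0 % 256 < 168)

/-- A table of classes is right. -/
def lmOk (e : Bool) (L : List ℕ) : Bool := (List.range 168).all (lmRow e L)

/-- All of the first `n` rows, from chunks of eight. -/
theorem all_of_chunks {P : ℕ → Bool} {n : ℕ}
    (h : ∀ i < n, ((List.range 8).all fun j => P (8 * i + j)) = true) : (List.range (8 * n)).all P = true := by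
  refine List.all_eq_true.2 fun x hx => ?_
  rw [List.mem_range] at hx
  have := List.all_eq_true.1 (h (x / 8) (by omega)) (x % 8) (List.mem_range.2 (by omega))
  rwa [Nat.div_add_mod] at this

/-- An involution is listed. -/
def invRow (m : ℕ → ℕ → ℕ) (invs : List (ℕ × ℕ × ℕ)) (c : ℕ) : Bool :=
  !(m c c == 0) || c == 0 || c == 64 || invs.any fun e => e.1 == c

/-- The list of involutions is complete. -/
def invComplete (m : ℕ → ℕ → ℕ) (invs : List (ℕ × ℕ × ℕ)) : Bool := (List.range 21504).all (invRow m invs)

/-- All of the first `w * n` values, from blocks of `w`. -/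
theorem all_of_blocks {P : ℕ → Bool} {w n : ℕ}
    (h : ∀ i < n, ((List.range w).all fun j => P (w * i + j)) = true) : (List.range (w * n)).all P = true := by
  refine List.all_eq_true.2 fun x hx => ?_
  rw [List.mem_range] at hx
  rcases Nat.eq_zero_or_pos w with rfl | hw
  · simp at hx
  · have := List.all_eq_true.1 (h (x / w) (Nat.div_lt_of_lt_mul hx)) (x % w) (List.mem_range.2 (Nat.mod_lt _ hw))
    rwa [Nat.div_add_mod] at this

/-- The conjugators are right. -/
def invConj (m : ℕ → ℕ → ℕ) (reps invs : List (ℕ × ℕ × ℕ)) : Bool :=
  invs.all fun e => decide (e.1 < 21504 ∧ e.2.1 < reps.length ∧ e.2.2 < 21504) &&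
    m e.2.2 (reps.getD e.2.1 (0, 0, 0)).1 == m e.1 e.2.2

/-- The square roots of `y` centralising `x`. -/
def rootList (m : ℕ → ℕ → ℕ) (x y : ℕ) : List ℕ :=
  (List.range 21504).filter fun h => m h h == y && m h x == m x h

/-- The counts of one class are right. -/
def countRow (m : ℕ → ℕ → ℕ) (r : ℕ × ℕ × ℕ) : Bool :=
  decide (r.1 < 21504) && (rootList m r.1 64).length == r.2.1 && (rootList m r.1 r.1).length == r.2.2

/-- The counts are right. -/
def countOk (m : ℕ → ℕ → ℕ) (reps : List (ℕ × ℕ × ℕ)) : Bool := reps.all (countRow m)

end CfsgLib.HeType.Local
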