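import Cfsg.Agent.Lib.HeType.Fusion
import Cfsg.Agent.Lib.HeType.Local.Fast

/-!
# Counting square roots in a centraliser given by codes
-/

set_option autoImplicit false
set_option linter.unusedSectionVars false
set_option maxRecDepth 20000

namespace CfsgLib.HeType.Local

variable {G : Type*} [Group G] [Finite G]

/-- The centraliser of `t` given by codes below `21504`. -/
structure IsCode (t : G) (el : ℕ → G) (m : ℕ → ℕ → ℕ) : Prop where
  mem : ∀ c < 21504, el c * t = t * el c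
  surj : ∀ g : G, g * t = t * g → ∃ c < 21504, el c = g
  inj : ∀ c < 21504, ∀ d < 21504, el c = el d → c = d
  mul : ∀ c < 21504, ∀ d < 21504, el c * el d = el (m c d)
  lt : ∀ c < 21504, ∀ d < 21504, m c d < 21504
  el_zero : el 0 = 1
  el_top : el 64 = t

theorem IsCode.congr {t : G} {el : ℕ → G} {m m' : ℕ → ℕ → ℕ} (K : IsCode t el m)
    (h : ∀ c < 21504, ∀ d < 21504, m' c d = m c d) : IsCode t el m' :=
  { K with
    mul := fun c hc d hd => by rw [h c hc d hd]; exact K.mul c hc d hd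
    lt := fun c hc d hd => by rw [h c hc d hd]; exact K.lt c hc d hd }

/-- The two counts of an involution. -/
def Val (t g : G) (v : ℕ × ℕ) : Prop := (roots t g t).ncard = v.1 ∧ (roots t g g).ncard = v.2

theorem roots_conj {t x y k : G} (hk : k * t = t * k) :
    (roots t (k * x * k⁻¹) (k * y * k⁻¹)).ncard = (roots t x y).ncard := by
  have hkt : k * t * k⁻¹ = t := by rw [hk, mul_inv_cancel_right]
  rw [← Set.ncard_image_of_injective (roots t x y) (MulAut.conj k).injective]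
  congr 1
  ext h
  constructor
  · rintro ⟨h1, h2, h3⟩
    refine ⟨k⁻¹ * h * k, ⟨?_, ?_, ?_⟩, by simp [mul_assoc]⟩
    · have := conj_comm k⁻¹ (show h * (k * t * k⁻¹) = k * t * k⁻¹ * h by rw [hkt, h1])
      simpa [mul_assoc] using this
    · have := conj_comm k⁻¹ h2
      simpa [mul_assoc] using this
    · calc k⁻¹ * h * k * (k⁻¹ * h * k) = k⁻¹ * (h * h) * k := by group
        _ = y := by rw [h3]; group
  · rintro ⟨h, ⟨h1, h2, h3⟩, rfl⟩
    refine ⟨?_, conj_comm k h2, ?_⟩
    · have := conj_comm k h1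
      rw [hkt] at this
      exact this
    · calc k * h * k⁻¹ * (k * h * k⁻¹) = k * (h * h) * k⁻¹ := by group
        _ = _ := by rw [h3]

namespace IsCode

variable {t : G} {el : ℕ → G} {m : ℕ → ℕ → ℕ} (K : IsCode t el m)
include K

theorem comm_iff {c d : ℕ} (hc : c < 21504) (hd : d < 21504) : el c * el d = el d * el c ↔ m c d = m d c := by
  rw [K.mul c hc d hd, K.mul d hd c hc]
  exact ⟨K.inj _ (K.lt c hc d hd) _ (K.lt d hd c hc), fun h => by rw [h]⟩

theorem root_count {x y : ℕ} (hx : x < 21504) (hy : y < 21504) :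
    (roots t (el x) (el y)).ncard = (rootList m x y).length := by
  classical
  have hlt : ∀ h ∈ rootList m x y, h < 21504 := fun h hh => List.mem_range.1 (List.mem_filter.1 hh).1
  have e : roots t (el x) (el y) = el '' ↑((rootList m x y).toFinset) := by
    ext g
    simp only [Set.mem_image, List.coe_toFinset, Set.mem_ofPred_eq]
    constructor
    · rintro ⟨h1, h2, h3⟩
      obtain ⟨c, hc, rfl⟩ := K.surj g h1
      refine ⟨c, List.mem_filter.2 ⟨List.mem_range.2 hc, ?_⟩, rfl⟩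
      rw [Bool.and_eq_true, beq_iff_eq, beq_iff_eq]
      exact ⟨K.inj _ (K.lt c hc c hc) y hy (by rw [← K.mul c hc c hc, h3]), (K.comm_iff hc hx).1 h2⟩
    · rintro ⟨c, hc, rfl⟩
      obtain ⟨hc', he⟩ := List.mem_filter.1 hc
      rw [List.mem_range] at hc'
      rw [Bool.and_eq_true, beq_iff_eq, beq_iff_eq] at he
      exact ⟨K.mem c hc', (K.comm_iff hc' hx).2 he.2, by rw [K.mul c hc' c hc', he.1]⟩
  rw [e, Set.InjOn.ncard_image fun a ha b hb h => K.inj a (hlt a (List.mem_toFinset.1 ha)) b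
    (hlt b (List.mem_toFinset.1 hb)) h, Set.ncard_coe_finset,
    List.toFinset_card_of_nodup (show (rootList m x y).Nodup from List.nodup_range.filter _)]

variable {reps invs : List (ℕ × ℕ × ℕ)} (hI : invComplete m invs = true) (hC : invConj m reps invs = true)
  (hN : countOk m reps = true)

include hC in
theorem entry {w : ℕ × ℕ × ℕ} (hw : w ∈ invs) : w.1 < 21504 ∧ w.2.1 < reps.length ∧ w.2.2 < 21504 ∧
    (reps.getD w.2.1 (0, 0, 0)) ∈ reps ∧
    ((reps.getD w.2.1 (0, 0, 0)).1 < 21504 → el w.1 = el w.2.2 * el (reps.getD w.2.1 (0, 0, 0)).1 * (el w.2.2)⁻¹) := by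
  have h := List.all_eq_true.1 hC w hw
  rw [Bool.and_eq_true, decide_eq_true_eq, beq_iff_eq] at h
  refine ⟨h.1.1, h.1.2.1, h.1.2.2, ?_, fun hr => ?_⟩
  · rw [List.getD_eq_getElem _ _ h.1.2.1]
    exact List.getElem_mem h.1.2.1
  · rw [eq_mul_inv_iff_mul_eq, K.mul _ h.1.1 _ h.1.2.2, K.mul _ h.1.2.2 _ hr, h.2]

include hN in
theorem rep_lt {r : ℕ × ℕ × ℕ} (hr : r ∈ reps) : r.1 < 21504 ∧ Val t (el r.1) r.2 := by
  have h := List.all_eq_true.1 hN r hr
  rw [countRow, Bool.and_eq_true, Bool.and_eq_true, decide_eq_true_eq, beq_iff_eq, beq_iff_eq] at h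
  refine ⟨h.1.1, ?_, ?_⟩
  · rw [← h.1.2, ← K.root_count h.1.1 (show 64 < 21504 by norm_num), K.el_top]
  · rw [← h.2, ← K.root_count h.1.1 h.1.1]

include hC hN in
theorem entry_val {w : ℕ × ℕ × ℕ} (hw : w ∈ invs) : Val t (el w.1) (reps.getD w.2.1 (0, 0, 0)).2 ∧
    IsConj (el (reps.getD w.2.1 (0, 0, 0)).1) (el w.1) := by
  obtain ⟨-, -, hk, hmem, he⟩ := K.entry hC hw
  obtain ⟨hr, hv1, hv2⟩ := K.rep_lt hN hmem
  have e := he hr
  refine ⟨⟨?_, ?_⟩, isConj_iff.2 ⟨_, e.symm⟩⟩
  · have := roots_conj (t := t) (x := el (reps.getD w.2.1 (0, 0, 0)).1) (y := t) (K.mem _ hk)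
    rw [show el w.2.2 * t * (el w.2.2)⁻¹ = t by rw [K.mem _ hk, mul_inv_cancel_right], ← e] at this
    rw [this, hv1]
  · have := roots_conj (t := t) (x := el (reps.getD w.2.1 (0, 0, 0)).1) (y := el (reps.getD w.2.1 (0, 0, 0)).1)
      (K.mem _ hk)
    rw [← e] at this
    rw [this, hv2]

include hI in
theorem classify {g : G} (hg : Inv' t g) : ∃ w ∈ invs, el w.1 = g := by
  obtain ⟨c, hc, rfl⟩ := K.surj g hg.1
  have h := List.all_eq_true.1 hI c (List.mem_range.2 hc)
  simp only [invRow, Bool.or_eq_true, Bool.not_eq_true', beq_eq_false_iff_ne, beq_iff_eq, List.any_eq_true] at h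
  rcases h with ((h | h) | h) | ⟨w, hw, e⟩
  · exact absurd (K.inj _ (K.lt c hc c hc) 0 (by norm_num) (by rw [← K.mul c hc c hc, hg.2.1, K.el_zero])) h
  · exact absurd (h ▸ K.el_zero) hg.2.2.1
  · exact absurd (h ▸ K.el_top) hg.2.2.2
  · exact ⟨w, hw, by rw [e]⟩

include hI hC hN in
/-- Swapped involutions lie in classes with exchanged counts. -/
theorem swap_vals {g g' : G} (hg : Inv' t g) (hg' : Inv' t g') (hs : Sw t g g') :
    ∃ r ∈ reps, ∃ r' ∈ reps, Val t g r.2 ∧ Val t g' r'.2 ∧ r.2.1 = r'.2.2 ∧ r.2.2 = r'.2.1 := by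
  obtain ⟨w, hw, rfl⟩ := K.classify hI hg
  obtain ⟨w', hw', rfl⟩ := K.classify hI hg'
  obtain ⟨hv, -⟩ := K.entry_val hC hN hw
  obtain ⟨hv', -⟩ := K.entry_val hC hN hw'
  refine ⟨_, (K.entry hC hw).2.2.2.1, _, (K.entry hC hw').2.2.2.1, hv, hv', ?_, ?_⟩
  · rw [← hv.1, ← hv'.2]; exact hs.1
  · rw [← hv.2, ← hv'.1]; exact hs.2

end IsCode

theorem fm_eq {R A L : List ℕ} {e : Bool} (hQ : qmOk = true) (hA : actOk R A = true) (hL : lmOk e L = true)
    {c d : ℕ} (hc : c < 21504) (hd : d < 21504) : fm A L c d = cMul R e c d ∧ cMul R e c d < 21504 := by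
  have hq : ∀ v < 128, ∀ w < 128, at8 qmT v w = qMul v w ∧ qMul v w < 128 := fun v hv w hw => by
    have := List.all_eq_true.1 (List.all_eq_true.1 hQ v (List.mem_range.2 hv)) w (List.mem_range.2 hw)
    rwa [Bool.and_eq_true, beq_iff_eq, decide_eq_true_eq] at this
  have h1 : at8 A (c / 128) (d % 128) = lAct R (c / 128) (d % 128) ∧ lAct R (c / 128) (d % 128) < 128 := by
    simp only [actOk, actRow, Bool.and_eq_true, genOk, List.all_eq_true, List.mem_range, beq_iff_eq, decide_eq_true_eq] at hA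
    obtain ⟨⟨hg, hw⟩, ht⟩ := hA
    have key : ∀ w : List ℕ, (∀ k ∈ w, k < 3) → ∀ v < 128,
        genAct A w v = w.foldr (fun k u => qAut (imOf R k) u) v ∧ genAct A w v < 128 := by
      intro w
      induction w with
      | nil => exact fun _ v hv => ⟨rfl, hv⟩
      | cons k w ih =>
        intro hk v hv
        obtain ⟨e, hlt⟩ := ih (fun j hj => hk j (List.mem_cons_of_mem _ hj)) v hv
        obtain ⟨e', hlt'⟩ := hg k (hk k (List.mem_cons_self)) _ hlt
        simp only [genAct, List.foldr_cons] at *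
        rw [e', ← e]
        exact ⟨rfl, hlt'⟩
    have hl : c / 128 < lPaths.length := by
      have : lPaths.length = 168 := by decide +kernel
      omega
    have hmem : ∀ k ∈ lPaths.getD (c / 128) [], k < 3 := by
      rw [List.getD_eq_getElem _ _ hl]
      exact hw _ (List.getElem_mem hl)
    obtain ⟨e, hlt⟩ := key _ hmem (d % 128) (Nat.mod_lt _ (by norm_num))
    rw [ht (c / 128) (by omega) (d % 128) (Nat.mod_lt _ (by norm_num))]
    exact ⟨e, by rw [e] at hlt; exact hlt⟩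
  have h2 := List.all_eq_true.1 (List.all_eq_true.1 hL (c / 128) (List.mem_range.2 (by omega))) (d / 128)
    (List.mem_range.2 (by omega))
  rw [Bool.and_eq_true, beq_iff_eq, decide_eq_true_eq] at h2
  obtain ⟨e1, l1⟩ := hq (c % 128) (Nat.mod_lt _ (by norm_num)) _ h1.2
  obtain ⟨e2, l2⟩ := hq _ l1 (64 * (lWalk e (lPaths.getD (d / 128) []) (c / 128) 0 / 256)) (by
    have := h2.2.1; omega)
  refine ⟨?_, ?_⟩
  · simp only [fm, cMul]
    rw [h2.1, h1.1, e1, e2]
  · simp only [cMul]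
    have := h2.2.2
    omega

end CfsgLib.HeType.Local
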